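import Groth.Agent.GeomProp.Apps
import Groth.Agent.GeomProp.RegLocal
import Groth.Agent.GeomProp.NormalColim
import Groth.Agent.Hensel.HenselizationNoeth
import Mathlib

/-!
Geometrically regular / normal algebras over a field, as a property `Fib Q k S`:
independent of the base field, invariant and local.
-/

set_option autoImplicit false
set_option linter.style.haveILetI false

namespace Groth.Agent.RegMor

universe u

open TensorProduct

/-- A property of rings to be tested geometrically. -/
structure Nice (Q : ∀ (R : Type u) [CommRing R], Prop) : Prop where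
  good : GeomProp.Good Q
  loc : ∀ {R L : Type u} [CommRing R] [CommRing L] [Algebra R L] (M : Submonoid R) [IsLocalization M L], Q R → Q L
  of_atPrimes : ∀ (R : Type u) [CommRing R] [IsNoetherianRing R],
    (∀ (P : Ideal R) [P.IsPrime], Q (Localization.AtPrime P)) → Q R

theorem nice_regular : Nice.{u} (fun R _ => IsRegularRing R) where
  good := GeomProp.good_regular
  loc M _ h := GeomProp.isRegularRing_of_isLocalization M h
  of_atPrimes R _ _ h := isRegularRing_iff.2 fun P _ => by
    haveI := h P
    haveI := IsRegularRing.isRegularLocalRing_localization (R := Localization.AtPrime P)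
      (IsLocalRing.maximalIdeal (Localization.AtPrime P))
    exact IsRegularLocalRing.of_ringEquiv
      (R := Localization.AtPrime (IsLocalRing.maximalIdeal (Localization.AtPrime P)))
      (IsLocalization.atUnits _ (IsLocalRing.maximalIdeal (Localization.AtPrime P)).primeCompl
        (fun x hx => (IsLocalRing.notMem_maximalIdeal.1 hx))).symm.toRingEquiv

theorem nice_normal : Nice.{u} (fun R _ => EGA4.IsNormalRing R) where
  good := GeomProp.good_normal
  loc M _ h := GeomProp.isNormalRing_of_isLocalization M h
  of_atPrimes R _ _ h := fun P _ => by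
    obtain ⟨_, _⟩ := h P (IsLocalRing.maximalIdeal (Localization.AtPrime P))
    let e := (IsLocalization.atUnits (Localization.AtPrime P) (IsLocalRing.maximalIdeal (Localization.AtPrime P)).primeCompl
        (S := Localization.AtPrime (IsLocalRing.maximalIdeal (Localization.AtPrime P)))
        (fun x hx => (IsLocalRing.notMem_maximalIdeal.1 hx))).symm.toRingEquiv
    exact ⟨e.symm.toMulEquiv.isDomain _, IsIntegrallyClosed.of_equiv e⟩

variable {Q : ∀ (R : Type u) [CommRing R], Prop}

/-- Noetherian, and `Q` after every finite extension of the base field. -/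
def Fib (Q : ∀ (R : Type u) [CommRing R], Prop) (k S : Type u) [Field k] [CommRing S] [Algebra k S] : Prop :=
  IsNoetherianRing S ∧ ∀ (k' : Type u) [Field k'] [Algebra k k'], Module.Finite k k' → Q (k' ⊗[k] S)

theorem fib_congr (hQ : Nice Q) {k S S' : Type u} [Field k] [CommRing S] [CommRing S'] [Algebra k S] [Algebra k S']
    (e : S ≃ₐ[k] S') (h : Fib Q k S) : Fib Q k S' := by
  haveI := h.1
  exact ⟨isNoetherianRing_of_ringEquiv S e.toRingEquiv, fun k' _ _ hk' =>
    hQ.good.equiv _ _ (Algebra.TensorProduct.congr (AlgEquiv.refl (R := k) (A₁ := k')) e).toRingEquiv (h.2 k' hk')⟩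

theorem fib_congr_iff (hQ : Nice Q) {k S S' : Type u} [Field k] [CommRing S] [CommRing S'] [Algebra k S] [Algebra k S']
    (e : S ≃ₐ[k] S') : Fib Q k S ↔ Fib Q k S' :=
  ⟨fib_congr hQ e, fib_congr hQ e.symm⟩

theorem noetherian_of_baseField (k K S : Type u) [Field k] [Field K] [Algebra k K] [CommRing S] [Algebra k S]
    [IsNoetherianRing (K ⊗[k] S)] : IsNoetherianRing S := by
  haveI : IsNoetherianRing (S ⊗[k] K) :=
    isNoetherianRing_of_ringEquiv _ (Algebra.TensorProduct.comm k K S).toRingEquiv
  haveI : Module.FaithfullyFlat S (S ⊗[k] K) := inferInstance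
  exact Hensel.isNoetherianRing_of_faithfullyFlat (S := S ⊗[k] K)

/-- The property does not depend on the base field. -/
theorem fib_baseField_iff (hQ : Nice Q) (k K S : Type u) [Field k] [Field K] [Algebra k K]
    [Algebra.EssFiniteType k K] [CommRing S] [Algebra k S] :
    Fib Q k S ↔ Fib Q K (K ⊗[k] S) := by
  constructor
  · intro h
    haveI := h.1
    haveI := FlatDepth.isNoetherianRing_tensor_essFinite k S K
    exact ⟨inferInstance, (hQ.good.geom_baseField_iff k K S).1 h.2⟩
  · intro h
    haveI := h.1
    haveI := noetherian_of_baseField k K S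
    exact ⟨inferInstance, (hQ.good.geom_baseField_iff k K S).2 h.2⟩

/-- Fibres over isomorphic points. -/
theorem fib_fieldEquiv (hQ : Nice Q) {A B K K' : Type u} [CommRing A] [CommRing B] [Algebra A B] [Field K] [Field K']
    [Algebra A K] [Algebra A K'] (θ : K ≃ₐ[A] K') (h : Fib Q K (K ⊗[A] B)) : Fib Q K' (K' ⊗[A] B) := by
  letI : Algebra K K' := θ.toRingEquiv.toRingHom.toAlgebra
  haveI : IsScalarTower A K K' := IsScalarTower.of_algebraMap_eq fun a => (θ.commutes a).symm
  haveI : Module.Finite K K' := Module.Finite.of_surjective (Algebra.linearMap K K') θ.surjective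
  exact fib_congr hQ (Algebra.TensorProduct.cancelBaseChange A K K' K' B)
    ((fib_baseField_iff hQ K K' (K ⊗[A] B)).1 h)

/-- Stable under localisation. -/
theorem fib_localization (hQ : Nice Q) {k S L : Type u} [Field k] [CommRing S] [CommRing L] [Algebra k S]
    [Algebra S L] [Algebra k L] [IsScalarTower k S L] (M : Submonoid S) [IsLocalization M L]
    (h : Fib Q k S) : Fib Q k L := by
  haveI := h.1
  refine ⟨IsLocalization.isNoetherianRing M L inferInstance, fun k' _ _ hk' => ?_⟩
  obtain ⟨_, _, _⟩ := GeomProp.tensor_localization (R := k) (Λ := S) (Λ' := L) M k'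
  exact hQ.good.equiv _ _ (Algebra.TensorProduct.comm k L k').toRingEquiv
    (hQ.loc (Algebra.algebraMapSubmonoid (S ⊗[k] k') M)
      (hQ.good.equiv _ _ (Algebra.TensorProduct.comm k k' S).toRingEquiv (h.2 k' hk')))

/-- Local for the Zariski topology. -/
theorem fib_of_span (hQ : Nice Q) {k S : Type u} [Field k] [CommRing S] [Algebra k S] (s : Finset S)
    (hs : Ideal.span (s : Set S) = ⊤)
    (h : ∀ g : s, Fib Q k (Localization.Away (g : S))) : Fib Q k S := by
  haveI hN : IsNoetherianRing S := AlgebraicGeometry.isNoetherianRing_of_away s hs fun g => (h g).1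
  refine ⟨hN, fun k' _ _ hk' => ?_⟩
  haveI := hk'
  haveI := FlatDepth.isNoetherianRing_tensor_essFinite k S k'
  haveI : IsNoetherianRing (S ⊗[k] k') :=
    isNoetherianRing_of_ringEquiv _ (Algebra.TensorProduct.comm k k' S).toRingEquiv
  refine hQ.good.equiv _ _ (Algebra.TensorProduct.comm k S k').toRingEquiv (hQ.of_atPrimes _ fun P _ => ?_)
  have hne : ¬ (s : Set S) ⊆ P.comap (algebraMap S (S ⊗[k] k')) := fun hle =>
    (Ideal.IsPrime.comap (f := algebraMap S (S ⊗[k] k'))).ne_top (top_le_iff.1 (hs ▸ Ideal.span_le.2 hle))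
  obtain ⟨g, hg, hgP⟩ := Set.not_subset.1 hne
  let L := Localization.Away g
  obtain ⟨_, _, _⟩ := GeomProp.tensor_localization (R := k) (Λ := S) (Λ' := L) (Submonoid.powers g) k'
  let M := Algebra.algebraMapSubmonoid (S ⊗[k] k') (Submonoid.powers g)
  have hR' : Q (L ⊗[k] k') :=
    hQ.good.equiv _ _ (Algebra.TensorProduct.comm k k' L).toRingEquiv ((h ⟨g, hg⟩).2 k' hk')
  have hdisj : Disjoint (M : Set (S ⊗[k] k')) P := by
    rw [Set.disjoint_left]
    rintro _ ⟨_, ⟨n, rfl⟩, rfl⟩ hb
    exact hgP (Ideal.IsPrime.mem_of_pow_mem (I := P) inferInstance n (by rwa [map_pow] at hb))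
  haveI := IsLocalization.isPrime_of_isPrime_disjoint M (L ⊗[k] k') P inferInstance hdisj
  let P' := P.map (algebraMap (S ⊗[k] k') (L ⊗[k] k'))
  have h3 : P'.comap (algebraMap (S ⊗[k] k') (L ⊗[k] k')) = P :=
    IsLocalization.under_map_of_isPrime_disjoint M _ inferInstance hdisj
  haveI : IsLocalization.AtPrime (Localization.AtPrime P') P := by
    convert IsLocalization.isLocalization_isLocalization_atPrime_isLocalization M (Localization.AtPrime P') P'
    exact h3.symm
  exact hQ.good.equiv (Localization.AtPrime P') (Localization.AtPrime P)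
    (IsLocalization.algEquiv P.primeCompl (Localization.AtPrime P') (Localization.AtPrime P)).toRingEquiv
    (hQ.loc P'.primeCompl hR')

end Groth.Agent.RegMor
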