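import Groth.Agent.RegMor.Ring
import Groth.Agent.SepFam.Residue
import Groth.Agent.ConsEngine.Fiber
import Groth.Agent.CMFlat.BaseChange
import Groth.Agent.FpqcDescent.Affine
import Mathlib

/-!
Regular and normal morphisms of schemes: fibrewise criterion and fppf descent.
-/

set_option autoImplicit false
set_option backward.isDefEq.respectTransparency.types false
set_option linter.style.haveILetI false

namespace Groth.Agent.RegMor

universe u

open CategoryTheory CategoryTheory.Limits AlgebraicGeometry TensorProduct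

variable {Q : ∀ (R : Type u) [CommRing R], Prop}

/-- The structure map on sections of a scheme over a field. -/
noncomputable def structHom {K : CommRingCat.{u}} {Z : Scheme.{u}} (m : Z ⟶ Spec K) (W : Z.Opens) : K ⟶ Γ(Z, W) :=
  (Scheme.ΓSpecIso K).inv ≫ m.appTop ≫ Z.presheaf.map (homOfLE le_top).op

/-- The map from sections of an open containing the image of a point of `Spec K`. -/
noncomputable def evalHom {K : CommRingCat.{u}} {Y : Scheme.{u}} (a : Spec K ⟶ Y) {V : Y.Opens} (hV : ⊤ ≤ a ⁻¹ᵁ V) :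
    Γ(Y, V) ⟶ K :=
  a.appLE V ⊤ hV ≫ (Scheme.ΓSpecIso K).hom

theorem algEquiv_of_isPushout {A B K S : CommRingCat.{u}} {f : A ⟶ B} {g : A ⟶ K} {inl : B ⟶ S} {inr : K ⟶ S}
    (h : IsPushout f g inl inr) :
    letI := f.hom.toAlgebra
    letI := g.hom.toAlgebra
    letI := inr.hom.toAlgebra
    Nonempty ((K ⊗[A] B) ≃ₐ[K] S) := by
  letI := f.hom.toAlgebra
  letI := g.hom.toAlgebra
  letI := inr.hom.toAlgebra
  letI := inl.hom.toAlgebra
  letI : Algebra A S := (g ≫ inr).hom.toAlgebra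
  haveI : IsScalarTower A K S := IsScalarTower.of_algebraMap_eq fun _ => rfl
  haveI : IsScalarTower A B S := IsScalarTower.of_algebraMap_eq fun a =>
    (congr($(h.w).hom a)).symm
  haveI : Algebra.IsPushout A K B S := CommRingCat.isPushout_iff_isPushout.1 h.flip
  exact ⟨Algebra.IsPushout.equiv A K B S⟩

/-- An affine piece of a pullback along a point. -/
theorem piece {P X Y : Scheme.{u}} {K : CommRingCat.{u}} {b : P ⟶ X} {m : P ⟶ Spec K} {p : X ⟶ Y} {a : Spec K ⟶ Y}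
    (H : IsPullback b m p a) {V : Y.Opens} (hV : IsAffineOpen V) {U : X.Opens} (hU : IsAffineOpen U)
    (hUV : U ≤ p ⁻¹ᵁ V) (haV : ⊤ ≤ a ⁻¹ᵁ V) :
    IsAffineOpen (b ⁻¹ᵁ U) ∧
      IsPushout (p.appLE V U hUV) (evalHom a haV) (b.app U) (structHom m (b ⁻¹ᵁ U)) := by
  have hW : b ⁻¹ᵁ U = b ⁻¹ᵁ U ⊓ m ⁻¹ᵁ (⊤ : (Spec K).Opens) := by simp
  have hUT : IsAffineOpen (⊤ : (Spec K).Opens) := isAffineOpen_top _
  have h1 := (isIso_pushoutSection_iff H haV hUV hW).1
    (isIso_pushoutSection_of_isAffineOpen H haV hUV hW hV hUT hU)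
  refine ⟨?_, ?_⟩
  · haveI : IsAffine _ := hV
    haveI : IsAffine _ := hU
    haveI : IsAffine _ := hUT
    exact .of_isIso (Scheme.Hom.isPullback_resLE H haV hUV hW).isoPullback.hom
  · refine IsPushout.of_iso h1 (Iso.refl _) (Iso.refl _) (Scheme.ΓSpecIso K) (Iso.refl _) (by simp) ?_ ?_ ?_
    · simp [evalHom]
    · simp only [Iso.refl_hom, Category.id_comp, Category.comp_id]
      exact Scheme.Hom.appLE_eq_app b
    · simp only [Iso.refl_hom, Category.comp_id, structHom, Iso.hom_inv_id_assoc]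
      rfl

/-- The scheme over a field is locally Noetherian and geometrically `Q`. -/
def Geo (Q : ∀ (R : Type u) [CommRing R], Prop) {K : Type u} [Field K] {Z : Scheme.{u}}
    (m : Z ⟶ Spec (CommRingCat.of K)) : Prop :=
  ∀ W : Z.Opens, IsAffineOpen W →
    letI : Algebra K Γ(Z, W) := (structHom m W).hom.toAlgebra
    Fib Q K Γ(Z, W)

theorem structHom_res {K : CommRingCat.{u}} {Z : Scheme.{u}} (m : Z ⟶ Spec K) {W W' : Z.Opens} (h : W' ≤ W) :
    structHom m W ≫ Z.presheaf.map (homOfLE h).op = structHom m W' := by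
  simp only [structHom, Category.assoc, ← Functor.map_comp]
  rfl

theorem geo_of_cover (hQ : Nice Q) {K : Type u} [Field K] {Z : Scheme.{u}} (m : Z ⟶ Spec (CommRingCat.of K))
    (h : ∀ z : Z, ∃ W : Z.Opens, z ∈ W ∧ IsAffineOpen W ∧
      letI : Algebra K Γ(Z, W) := (structHom m W).hom.toAlgebra
      Fib Q K Γ(Z, W)) : Geo Q m := by
  choose W hz hW hF using h
  intro V hV
  refine of_affine_open_cover (P := fun V : Z.affineOpens =>
      letI : Algebra K Γ(Z, V.1) := (structHom m V.1).hom.toAlgebra; Fib Q K Γ(Z, V.1))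
    (fun z => (⟨W z, hW z⟩ : Z.affineOpens)) (top_le_iff.1 fun z _ => TopologicalSpace.Opens.mem_iSup.2 ⟨z, hz z⟩)
    ⟨V, hV⟩ ?_ ?_ (fun z => hF z)
  · intro U g hP
    letI : Algebra K Γ(Z, U.1) := (structHom m U.1).hom.toAlgebra
    letI : Algebra K Γ(Z, Z.basicOpen g) := (structHom m (Z.basicOpen g)).hom.toAlgebra
    haveI := U.2.isLocalization_basicOpen g
    haveI : IsScalarTower K Γ(Z, U.1) Γ(Z, Z.basicOpen g) :=
      IsScalarTower.of_algebraMap_eq fun c => congr($((structHom_res m (Z.basicOpen_le g)).symm).hom c)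
    show Fib Q K Γ(Z, Z.basicOpen g)
    exact fib_localization hQ (Submonoid.powers g) hP
  · intro U s hs hP
    letI : Algebra K Γ(Z, U.1) := (structHom m U.1).hom.toAlgebra
    refine fib_of_span hQ s hs fun g => ?_
    letI : Algebra K Γ(Z, Z.basicOpen (g : Γ(Z, U.1))) := (structHom m (Z.basicOpen (g : Γ(Z, U.1)))).hom.toAlgebra
    haveI := U.2.isLocalization_basicOpen (g : Γ(Z, U.1))
    haveI : IsScalarTower K Γ(Z, U.1) Γ(Z, Z.basicOpen (g : Γ(Z, U.1))) :=
      IsScalarTower.of_algebraMap_eq fun c => congr($((structHom_res m (Z.basicOpen_le _)).symm).hom c)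
    exact fib_congr hQ ((IsLocalization.algEquiv (Submonoid.powers (g : Γ(Z, U.1))) Γ(Z, Z.basicOpen (g : Γ(Z, U.1)))
      (Localization.Away (g : Γ(Z, U.1)))).restrictScalars K) (hP g)

theorem isLocallyNoetherian_of_geo {K : Type u} [Field K] {Z : Scheme.{u}} {m : Z ⟶ Spec (CommRingCat.of K)}
    (h : Geo Q m) : IsLocallyNoetherian Z := by
  refine ⟨fun W => ?_⟩
  have h' := h W.1 W.2
  exact h'.1

/-- Independence of the base field. -/
theorem geo_bc_iff (hQ : Nice Q) {k K : Type u} [Field k] [Field K] (φ : k →+* K)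
    (hφ : φ.EssFiniteType) {Z Z' : Scheme.{u}} {b : Z' ⟶ Z} {m' : Z' ⟶ Spec (CommRingCat.of K)}
    {m : Z ⟶ Spec (CommRingCat.of k)}
    (H : IsPullback b m' m (Spec.map (CommRingCat.ofHom φ))) : Geo Q m ↔ Geo Q m' := by
  letI : Algebra k K := φ.toAlgebra
  haveI : Algebra.EssFiniteType k K := hφ
  have key : ∀ W : Z.Opens, IsAffineOpen W → IsAffineOpen (b ⁻¹ᵁ W) ∧
      ((letI : Algebra k Γ(Z, W) := (structHom m W).hom.toAlgebra; Fib Q k Γ(Z, W)) ↔
        (letI : Algebra K Γ(Z', b ⁻¹ᵁ W) := (structHom m' (b ⁻¹ᵁ W)).hom.toAlgebra; Fib Q K Γ(Z', b ⁻¹ᵁ W))) := fun W hW => by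
    obtain ⟨hW', hp⟩ := piece H (isAffineOpen_top (Spec (CommRingCat.of k))) hW le_top le_top
    refine ⟨hW', ?_⟩
    have hp' : IsPushout (structHom m W) (CommRingCat.ofHom φ) (b.app W) (structHom m' (b ⁻¹ᵁ W)) := by
      refine IsPushout.of_iso hp (Scheme.ΓSpecIso (CommRingCat.of k)) (Iso.refl _) (Iso.refl _) (Iso.refl _) ?_ ?_
        (by simp) (by simp)
      · simp only [Iso.refl_hom, Category.comp_id, structHom, Iso.hom_inv_id_assoc]
        rfl
      · simp only [Iso.refl_hom, Category.comp_id, evalHom]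
        simp [Scheme.Hom.appLE]
    letI : Algebra k Γ(Z, W) := (structHom m W).hom.toAlgebra
    letI : Algebra K Γ(Z', b ⁻¹ᵁ W) := (structHom m' (b ⁻¹ᵁ W)).hom.toAlgebra
    obtain ⟨e⟩ := algEquiv_of_isPushout hp'
    exact (fib_baseField_iff hQ k K Γ(Z, W)).trans (fib_congr_iff hQ e)
  constructor
  · intro h
    refine geo_of_cover hQ m' fun z' => ?_
    obtain ⟨W, hW, hzW, -⟩ := (exists_isAffineOpen_mem_and_subset (x := b z') (U := (⊤ : Z.Opens)) trivial)
    exact ⟨b ⁻¹ᵁ W, hzW, (key W hW).1, (key W hW).2.1 (h W hW)⟩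
  · intro h W hW
    exact (key W hW).2.2 (h _ (key W hW).1)

/-- Points of an affine open and residue fields of primes. -/
theorem residue_equiv {Y : Scheme.{u}} {V : Y.Opens} (hV : IsAffineOpen V) (p : Ideal Γ(Y, V)) [p.IsPrime] :
    ∃ (y : Y) (hy : ⊤ ≤ (Y.fromSpecResidueField y) ⁻¹ᵁ V), hV.fromSpec ⟨p, inferInstance⟩ = y ∧
      letI := (evalHom (Y.fromSpecResidueField y) hy).hom.toAlgebra
      Nonempty (Y.residueField y ≃ₐ[Γ(Y, V)] p.ResidueField) := by
  obtain ⟨y, hy, θ, hθ⟩ := SepFam.exists_residue_alg hV p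
  letI := (evalHom (Y.fromSpecResidueField y) hy).hom.toAlgebra
  let ψ : Y.residueField y →ₐ[Γ(Y, V)] p.ResidueField :=
    { toRingHom := θ.comp (Scheme.ΓSpecIso (Y.residueField y)).inv.hom
      commutes' := fun a => by
        refine Eq.trans ?_ (hθ a)
        exact congrArg θ (congr($(Category.assoc _ _ _ |>.trans
          (by rw [Iso.hom_inv_id, Category.comp_id] :
            (Y.fromSpecResidueField y).appLE V ⊤ hy ≫ (Scheme.ΓSpecIso _).hom ≫ (Scheme.ΓSpecIso _).inv =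
              (Y.fromSpecResidueField y).appLE V ⊤ hy)).hom a)) }
  have hbij : Function.Bijective ψ := by
    refine ⟨ψ.toRingHom.injective, fun x => ?_⟩
    obtain ⟨a, b, hb, rfl⟩ := IsFractionRing.div_surjective (A := Γ(Y, V) ⧸ p) x
    obtain ⟨a, rfl⟩ := Ideal.Quotient.mk_surjective a
    obtain ⟨b, rfl⟩ := Ideal.Quotient.mk_surjective b
    refine ⟨algebraMap Γ(Y, V) _ a / algebraMap Γ(Y, V) _ b, ?_⟩
    rw [map_div₀, AlgHom.commutes, AlgHom.commutes]
    rfl
  refine ⟨y, hy, ?_, ⟨AlgEquiv.ofBijective ψ hbij⟩⟩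
  have hker : RingHom.ker (evalHom (Y.fromSpecResidueField y) hy).hom = p := by
    ext a
    rw [RingHom.mem_ker, ← Ideal.algebraMap_residueField_eq_zero (I := p), ← ψ.commutes]
    exact (map_eq_zero ψ.toRingHom).symm
  have h1 := IsAffineOpen.SpecMap_appLE_fromSpec (Y.fromSpecResidueField y) hV
    (isAffineOpen_top (Spec (Y.residueField y))) hy
  have h2 : Spec.map (evalHom (Y.fromSpecResidueField y) hy) ≫ hV.fromSpec = Y.fromSpecResidueField y := by
    rw [evalHom, Spec.map_comp, Category.assoc, h1, ← Category.assoc]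
    convert Category.id_comp _
    rw [IsAffineOpen.fromSpec_top, Scheme.isoSpec_Spec_inv, ← Spec.map_comp]
    simp
  let z : Spec (Y.residueField y) := (⊥ : PrimeSpectrum (Y.residueField y))
  have hz : (Spec.map (evalHom (Y.fromSpecResidueField y) hy)) z = (⟨p, inferInstance⟩ : PrimeSpectrum Γ(Y, V)) :=
    PrimeSpectrum.ext ((RingHom.ker_eq_comap_bot _).symm.trans hker)
  rw [← hz]
  refine Eq.trans ?_ (Scheme.fromSpecResidueField_apply (X := Y) y z)
  rw [← Scheme.Hom.comp_apply]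
  exact congr($(h2) z)

/-- Every affine chart gives an affine open of the fibre, with ring of functions the fibre ring. -/
theorem fibre_chart {X Y : Scheme.{u}} (f : X ⟶ Y) {V : Y.Opens} (hV : IsAffineOpen V) {U : X.Opens}
    (hU : IsAffineOpen U) (hUV : U ≤ f ⁻¹ᵁ V) (p : Ideal Γ(Y, V)) [p.IsPrime] :
    ∃ y : Y, hV.fromSpec ⟨p, inferInstance⟩ = y ∧ IsAffineOpen ((f.fiberι y) ⁻¹ᵁ U) ∧
      letI := (f.appLE V U hUV).hom.toAlgebra
      letI : Algebra (Y.residueField y) Γ(f.fiber y, (f.fiberι y) ⁻¹ᵁ U) :=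
        (structHom (f.fiberToSpecResidueField y) ((f.fiberι y) ⁻¹ᵁ U)).hom.toAlgebra
      Nonempty (p.Fiber Γ(X, U) ≃+* Γ(f.fiber y, (f.fiberι y) ⁻¹ᵁ U)) ∧
        ∀ (Q : ∀ (R : Type u) [CommRing R], Prop), Nice Q →
          (Fib Q p.ResidueField (p.Fiber Γ(X, U)) ↔
            Fib Q (Y.residueField y) Γ(f.fiber y, (f.fiberι y) ⁻¹ᵁ U)) := by
  obtain ⟨y, hy, hpy, hθ⟩ := residue_equiv hV p
  letI := (f.appLE V U hUV).hom.toAlgebra
  letI := (evalHom (Y.fromSpecResidueField y) hy).hom.toAlgebra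
  obtain ⟨θ⟩ := hθ
  obtain ⟨hW, hp⟩ := piece (IsPullback.of_hasPullback f (Y.fromSpecResidueField y)) hV hU hUV hy
  letI : Algebra (Y.residueField y) Γ(f.fiber y, (f.fiberι y) ⁻¹ᵁ U) :=
    (structHom (f.fiberToSpecResidueField y) ((f.fiberι y) ⁻¹ᵁ U)).hom.toAlgebra
  have he : Nonempty (Y.residueField y ⊗[Γ(Y, V)] Γ(X, U) ≃ₐ[Y.residueField y]
      Γ(f.fiber y, (f.fiberι y) ⁻¹ᵁ U)) := algEquiv_of_isPushout hp
  obtain ⟨e⟩ := he
  refine ⟨y, hpy, hW, ⟨(Algebra.TensorProduct.congr θ.symm AlgEquiv.refl).toRingEquiv.trans e.toRingEquiv⟩, ?_⟩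
  intro Q hQ
  exact ⟨fun h => fib_congr hQ e (fib_fieldEquiv hQ θ.symm h),
    fun h => fib_fieldEquiv hQ θ (fib_congr hQ e.symm h)⟩

/-- Flat with Noetherian, geometrically `Q` fibre rings, on all affine charts. -/
def Full (Q : ∀ (R : Type u) [CommRing R], Prop) {X Y : Scheme.{u}} (f : X ⟶ Y) : Prop :=
  ∀ (U : X.Opens) (V : Y.Opens) (hU : IsAffineOpen U) (hV : IsAffineOpen V) (hUV : U ≤ f ⁻¹ᵁ V),
    letI := (f.appLE V U hUV).hom.toAlgebra
    Module.Flat Γ(Y, V) Γ(X, U) ∧ ∀ (p : Ideal Γ(Y, V)) [p.IsPrime], Fib Q p.ResidueField (p.Fiber Γ(X, U))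

theorem full_iff (hQ : Nice Q) {X Y : Scheme.{u}} (f : X ⟶ Y) :
    Full Q f ↔ Flat f ∧ ∀ y, Geo Q (f.fiberToSpecResidueField y) := by
  constructor
  · intro h
    refine ⟨⟨fun {V} hV {U} hU e => ?_⟩, fun y => geo_of_cover hQ _ fun z => ?_⟩
    · letI := (f.appLE V U e).hom.toAlgebra
      exact RingHom.flat_algebraMap_iff.2 (h U V hU hV e).1
    obtain ⟨V, hV, hyV, -⟩ := exists_isAffineOpen_mem_and_subset (x := y) (U := (⊤ : Y.Opens)) trivial
    have hz : f (f.fiberι y z) = y := by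
      have := Set.mem_range_self (f := f.fiberι y) z
      rw [Scheme.Hom.range_fiberι] at this
      exact this
    obtain ⟨U, hU, hzU, hUV⟩ := exists_isAffineOpen_mem_and_subset (x := f.fiberι y z) (U := f ⁻¹ᵁ V)
      (show f (f.fiberι y z) ∈ V from hz.symm ▸ hyV)
    obtain ⟨p, rfl⟩ : y ∈ Set.range hV.fromSpec := hV.range_fromSpec.ge hyV
    haveI := p.isPrime
    obtain ⟨y', hy', hW, -, hiff⟩ := fibre_chart f hV hU hUV p.asIdeal
    subst hy'
    exact ⟨_, hzU, hW, (hiff Q hQ).1 ((h U V hU hV hUV).2 p.asIdeal)⟩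
  · rintro ⟨_, h⟩ U V hU hV hUV
    letI := (f.appLE V U hUV).hom.toAlgebra
    refine ⟨RingHom.flat_algebraMap_iff.1 (Flat.flat_appLE f hV hU hUV), fun p _ => ?_⟩
    obtain ⟨y, -, hW, -, hiff⟩ := fibre_chart f hV hU hUV p
    exact (hiff Q hQ).2 (h y _ hW)

theorem noetherian_fibre {X Y : Scheme.{u}} (f : X ⟶ Y) (hN : ∀ y : Y, IsLocallyNoetherian (f.fiber y))
    {V : Y.Opens} (hV : IsAffineOpen V) {U : X.Opens} (hU : IsAffineOpen U) (hUV : U ≤ f ⁻¹ᵁ V)
    (p : Ideal Γ(Y, V)) [p.IsPrime] :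
    letI := (f.appLE V U hUV).hom.toAlgebra
    IsNoetherianRing (p.Fiber Γ(X, U)) := by
  obtain ⟨y, -, hW, he, -⟩ := fibre_chart f hV hU hUV p
  obtain ⟨e⟩ := he
  haveI := hN y
  haveI := IsLocallyNoetherian.component_noetherian ⟨_, hW⟩
  exact isNoetherianRing_of_ringEquiv _ e.symm

set_option backward.isDefEq.respectTransparency.types false in
/-- Fppf descent and base change. -/
theorem full_baseChange_iff (hQ : Nice Q) {X Y X' Y' : Scheme.{u}} {f : X ⟶ Y} {f' : X' ⟶ Y'} {g' : X' ⟶ X}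
    {g : Y' ⟶ Y} [Flat g] [LocallyOfFinitePresentation g] [Surjective g] (hc : IsPullback g' f' f g) :
    Full Q f ↔ Full Q f' := by
  rw [full_iff hQ, full_iff hQ]
  have hgeo : ∀ y', Geo Q (f.fiberToSpecResidueField (g y')) ↔ Geo Q (f'.fiberToSpecResidueField y') := fun y' =>
    geo_bc_iff hQ _ (CMFlat.essFiniteType_residueFieldMap g y') (ConsEngine.isPullback_fiberBC hc y')
  constructor
  · rintro ⟨hf, h⟩
    exact ⟨MorphismProperty.of_isPullback hc hf, fun y' => (hgeo y').1 (h _)⟩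
  · rintro ⟨hf, h⟩
    refine ⟨MorphismProperty.of_isPullback_of_descendsAlong
      (Q := (@Surjective ⊓ @Flat ⊓ @LocallyOfFinitePresentation : MorphismProperty Scheme.{u})) hc.flip
      ⟨⟨‹_›, ‹_›⟩, ‹_›⟩ hf, fun y => ?_⟩
    obtain ⟨y', rfl⟩ := g.surjective y
    exact (hgeo y').2 (h y')

theorem regularHom_iff_full {X Y : Scheme.{u}} (f : X ⟶ Y) :
    (∀ (U : X.Opens) (V : Y.Opens) (hU : IsAffineOpen U) (hV : IsAffineOpen V) (hUV : U ≤ f ⁻¹ᵁ V),
        letI := (f.appLE V U hUV).hom.toAlgebra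
        CAlg.IsRegularHom Γ(Y, V) Γ(X, U)) ↔ Full (fun R _ => IsRegularRing R) f :=
  Iff.rfl

theorem normalHom_iff_full {X Y : Scheme.{u}} (f : X ⟶ Y) :
    ((∀ y : Y, IsLocallyNoetherian (f.fiber y)) ∧
      ∀ (U : X.Opens) (V : Y.Opens) (hU : IsAffineOpen U) (hV : IsAffineOpen V) (hUV : U ≤ f ⁻¹ᵁ V),
        letI := (f.appLE V U hUV).hom.toAlgebra
        EGA4.IsNormalHom Γ(Y, V) Γ(X, U)) ↔ Full (fun R _ => EGA4.IsNormalRing R) f := by
  constructor
  · rintro ⟨hN, h⟩ U V hU hV hUV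
    exact ⟨(h U V hU hV hUV).1, fun p _ => ⟨noetherian_fibre f hN hV hU hUV p, (h U V hU hV hUV).2 p⟩⟩
  · intro h
    exact ⟨fun y => isLocallyNoetherian_of_geo (((full_iff nice_normal f).1 h).2 y),
      fun U V hU hV hUV => ⟨(h U V hU hV hUV).1, fun p _ => ((h U V hU hV hUV).2 p).2⟩⟩

end Groth.Agent.RegMor
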